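import Mathlib.RingTheory.Kaehler.Basic
import Mathlib.RingTheory.Smooth.Basic
import Mathlib.RingTheory.Filtration
import Mathlib.RingTheory.Finiteness.Projective
import Mathlib.RingTheory.Extension.Cotangent.Basic
import Mathlib.RingTheory.TensorProduct.Finite
import Mathlib.Algebra.CharP.Defs
import Mathlib.Tactic.Module
import Mathlib.Tactic.LinearCombination
import Mathlib.Tactic.Ring

/-!
For a smooth algebra `A` over a field of characteristic zero, a relation `∑ fₖ gₖ = 0` in the
diagonal ideal `I ⊆ A ⊗ A` is symmetric: `∑ (fₖ ⊗ gₖ + gₖ ⊗ fₖ) = 0` in `I ⊗ I` (`Sym² I → I²` is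
injective).
-/

namespace Groth.L08.Diag

open TensorProduct KaehlerDifferential

universe u v

variable (k : Type u) (A : Type v) [CommRing k] [CommRing A] [Algebra k A]

local notation "BB" => A ⊗[k] A
local notation "II" => KaehlerDifferential.ideal k A

/-- the retraction of `A ⊗ A` onto the diagonal ideal -/
noncomputable def rho : BB →ₗ[k] II :=
  (LinearMap.id - (TensorProduct.mk k A A).flip 1 ∘ₗ LinearMap.mul' k A).codRestrict
    (Submodule.restrictScalars k II) (fun z => by
      change Algebra.TensorProduct.lmul' k (z - (LinearMap.mul' k A z) ⊗ₜ[k] (1 : A)) = 0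
      rw [map_sub, Algebra.TensorProduct.lmul'_apply_tmul, mul_one]
      exact sub_self _)

theorem rho_coe (f : II) : rho k A (f : BB) = f := by
  refine Subtype.ext ?_
  change (f : BB) - (LinearMap.mul' k A (f : BB)) ⊗ₜ[k] (1 : A) = f
  have h : LinearMap.mul' k A (f : BB) = 0 := f.2
  rw [h, zero_tmul, sub_zero]

/-- `a ⊗ b ↦ a db` -/
noncomputable def theta : BB →ₗ[A] Ω[A⁄k] := (KaehlerDifferential.D k A).tensorProductTo

theorem fromIdeal_eq_theta (f : II) : KaehlerDifferential.fromIdeal k A f = theta k A (f : BB) := by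
  have : ∀ z : BB, KaehlerDifferential.fromIdeal k A (rho k A z) = theta k A z := by
    intro z
    induction z using TensorProduct.induction_on with
    | zero => simp
    | add x y hx hy => simp only [map_add, hx, hy]
    | tmul a b =>
      have e : rho k A (a ⊗ₜ b) = a • (⟨1 ⊗ₜ b - b ⊗ₜ 1,
          KaehlerDifferential.one_smul_sub_smul_one_mem_ideal k b⟩ : II) := by
        refine Subtype.ext ?_
        change a ⊗ₜ[k] b - (LinearMap.mul' k A (a ⊗ₜ[k] b)) ⊗ₜ[k] (1 : A)
          = a • ((1 : A) ⊗ₜ[k] b - b ⊗ₜ[k] 1)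
        rw [LinearMap.mul'_apply, smul_sub, TensorProduct.smul_tmul', TensorProduct.smul_tmul']
        simp
      rw [e, LinearMap.map_smul_of_tower, theta, Derivation.tensorProductTo_tmul,
        KaehlerDifferential.D_apply]
      rfl
  rw [← this, rho_coe]

theorem mem_sq_of_theta_eq_zero {z : BB} (hz : z ∈ II) (h : theta k A z = 0) : z ∈ II ^ 2 := by
  rw [← fromIdeal_eq_theta k A ⟨z, hz⟩] at h
  exact (Ideal.toCotangent_eq_zero II ⟨z, hz⟩).1 h

variable {k A}

/-- the derivation `1 ⊗ (φ ∘ d)` of `A ⊗ A` -/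
noncomputable def Dop (φ : Ω[A⁄k] →ₗ[A] A) : BB →ₗ[k] BB :=
  LinearMap.lTensor A ((φ.restrictScalars k) ∘ₗ (KaehlerDifferential.D k A).toLinearMap)

theorem Dop_mul (φ : Ω[A⁄k] →ₗ[A] A) (x y : BB) :
    Dop φ (x * y) = Dop φ x * y + x * Dop φ y := by
  induction x using TensorProduct.induction_on with
  | zero => simp
  | add x x' hx hx' => simp only [add_mul, map_add, hx, hx']; abel
  | tmul a b =>
    induction y using TensorProduct.induction_on with
    | zero => simp
    | add y y' hy hy' => simp only [mul_add, map_add, hy, hy']; abel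
    | tmul c e =>
      simp only [Dop, Algebra.TensorProduct.tmul_mul_tmul, LinearMap.lTensor_tmul,
        LinearMap.comp_apply, LinearMap.restrictScalars_apply]
      change (a * c) ⊗ₜ[k] φ (KaehlerDifferential.D k A (b * e)) = _
      rw [Derivation.leibniz, map_add, map_smul, map_smul, tmul_add]
      simp only [smul_eq_mul, mul_comm e, mul_comm b]
      rw [add_comm]
      rfl

theorem lmul'_Dop (φ : Ω[A⁄k] →ₗ[A] A) (x : BB) :
    Algebra.TensorProduct.lmul' k (Dop φ x) = φ (theta k A x) := by
  induction x using TensorProduct.induction_on with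
  | zero => simp
  | add x x' hx hx' => simp only [map_add, hx, hx']
  | tmul a b => simp [Dop, theta, Derivation.tensorProductTo_tmul]

theorem Dop_mem_pow (φ : Ω[A⁄k] →ₗ[A] A) : ∀ (m : ℕ) {z : BB}, z ∈ II ^ (m + 1) →
    Dop φ z ∈ II ^ m := by
  intro m
  induction m with
  | zero => simp
  | succ m ih =>
    intro z hz
    rw [pow_succ] at hz
    refine Submodule.mul_induction_on hz (fun x hx y hy => ?_) (fun x y hx hy => ?_)
    · rw [Dop_mul]
      refine Ideal.add_mem _ ?_ ?_
      · rw [pow_succ]; exact Ideal.mul_mem_mul (ih hx) hy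
      · exact Ideal.mul_mem_right _ _ hx
    · rw [map_add]; exact Ideal.add_mem _ hx hy

section Euler

variable {N : ℕ}

/-- the Euler operator -/
noncomputable def euler (φ : Fin N → Ω[A⁄k] →ₗ[A] A)
    (ε : Fin N → KaehlerDifferential.ideal k A) (z : A ⊗[k] A) : A ⊗[k] A :=
  ∑ i, Dop (φ i) z * (ε i : A ⊗[k] A)

theorem euler_sub_mem (φ : Fin N → Ω[A⁄k] →ₗ[A] A) (e : Fin N → Ω[A⁄k])
    (he : ∀ ω, ∑ i, φ i ω • e i = ω) (ε : Fin N → KaehlerDifferential.ideal k A)
    (hε : ∀ i, theta k A (ε i : BB) = e i) :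
    ∀ (m : ℕ) {z : BB}, z ∈ II ^ m → euler φ ε z - m * z ∈ II ^ (m + 1) := by
  have h0 : ∀ z : BB, euler φ ε z ∈ II := fun z =>
    Ideal.sum_mem _ fun i _ => Ideal.mul_mem_left _ _ (ε i).2
  have hth : ∀ c f : BB, f ∈ II →
      theta k A (c * f) = Algebra.TensorProduct.lmul' k c • theta k A f := by
    intro c f hf
    rw [theta, Derivation.tensorProductTo_mul, show Algebra.TensorProduct.lmul' k f = 0 from hf,
      zero_smul, add_zero]
  have h1 : ∀ z ∈ II, euler φ ε z - z ∈ II ^ 2 := by
    intro z hz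
    refine mem_sq_of_theta_eq_zero k A (Ideal.sub_mem _ (h0 z) hz) ?_
    rw [map_sub, euler, map_sum]
    simp only [fun i => hth (Dop (φ i) z) _ (ε i).2, lmul'_Dop, hε, he, sub_self]
  have hmul : ∀ x y : BB, euler φ ε (x * y) = euler φ ε x * y + x * euler φ ε y := by
    intro x y
    simp only [euler, Dop_mul, Finset.sum_mul, Finset.mul_sum, ← Finset.sum_add_distrib]
    exact Finset.sum_congr rfl fun i _ => by ring
  intro m
  induction m with
  | zero => intro z _; simpa using h0 z
  | succ m ih =>
    intro z hz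
    rw [pow_succ] at hz
    refine Submodule.mul_induction_on hz (fun x hx y hy => ?_) (fun x y hx hy => ?_)
    · have e1 : (euler φ ε x - m * x) * y ∈ II ^ (m + 1 + 1) := by
        rw [pow_succ _ (m + 1)]; exact Ideal.mul_mem_mul (ih hx) hy
      have e2 : x * (euler φ ε y - y) ∈ II ^ (m + 1 + 1) := by
        rw [show m + 1 + 1 = m + 2 from rfl, pow_add]; exact Ideal.mul_mem_mul hx (h1 y hy)
      convert Ideal.add_mem _ e1 e2 using 1
      rw [hmul]; push_cast; ring
    · convert Ideal.add_mem _ hx hy using 1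
      simp only [euler, map_add, add_mul, Finset.sum_add_distrib]; ring

end Euler

local notation "EE" => (KaehlerDifferential.ideal k A) ⊗[A ⊗[k] A] (KaehlerDifferential.ideal k A)

variable (k A) in
/-- symmetrisation on `I ⊗ I` -/
noncomputable def symI : EE →ₗ[BB] EE :=
  LinearMap.id + (TensorProduct.comm BB II II).toLinearMap

theorem symI_tmul (f g : II) : symI k A (f ⊗ₜ g) = f ⊗ₜ g + g ⊗ₜ f := by
  simp [symI]

variable (k A) in
/-- multiplication on `I ⊗ I` -/
noncomputable def mulI : EE →ₗ[BB] BB :=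
  TensorProduct.lift ((LinearMap.mul BB BB).compl₁₂ (Submodule.subtype II) (Submodule.subtype II))

@[simp] theorem mulI_tmul (f g : II) : mulI k A (f ⊗ₜ g) = (f : BB) * (g : BB) := by
  simp [mulI]

theorem symI_mem_smul (j : ℕ) (a g : II) (ha : (a : BB) ∈ II ^ (j + 1)) :
    symI k A (a ⊗ₜ g) ∈ II ^ j • LinearMap.range (symI k A) := by
  rw [← rho_coe k A a]
  rw [pow_succ] at ha
  refine Submodule.mul_induction_on ha (fun x hx y hy => ?_) (fun x y hx hy => ?_)
  · rw [show rho k A (x * y) = x • (⟨y, hy⟩ : II) from rho_coe k A (x • (⟨y, hy⟩ : II)),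
      ← TensorProduct.smul_tmul', map_smul]
    exact Submodule.smul_mem_smul hx (LinearMap.mem_range_self _ _)
  · rw [map_add, add_tmul, map_add]
    exact add_mem hx hy

theorem mem_of_zero_sub_mem {R M : Type*} [CommRing R] [AddCommGroup M] [Module R M]
    {N : Submodule R M} {x : M} (h : 0 - x ∈ N) : x ∈ N := by
  simpa using h

theorem eq_zero_of_mulI [Module.Projective A Ω[A⁄k]] [Module.Finite A Ω[A⁄k]]
    [IsNoetherianRing BB] (hchar : ∀ m : ℕ, 0 < m → IsUnit (m : k))
    (η : EE) (h : mulI k A η = 0) : symI k A η = 0 := by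
  classical
  obtain ⟨N, f, g, -, -, hfg⟩ := Module.Finite.exists_comp_eq_id_of_projective A Ω[A⁄k]
  let φ : Fin N → Ω[A⁄k] →ₗ[A] A := fun i => (LinearMap.proj i) ∘ₗ g
  let e : Fin N → Ω[A⁄k] := fun i => f (Pi.single i 1)
  have he : ∀ ω, ∑ i, φ i ω • e i = ω := fun ω => by
    have : g ω = ∑ i, φ i ω • Pi.single i (1 : A) := pi_eq_sum_univ' (g ω)
    calc ∑ i, φ i ω • e i = f (g ω) := by rw [this, map_sum]; simp [e]
      _ = ω := LinearMap.congr_fun hfg ω
  have hsur : ∀ i, ∃ x : II, theta k A (x : BB) = e i := fun i => by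
    obtain ⟨x, hx⟩ := KaehlerDifferential.fromIdeal_surjective k A (e i)
    exact ⟨x, by rw [← fromIdeal_eq_theta, hx]⟩
  choose ε hε using hsur
  let Λ : BB →ₗ[k] EE := ∑ i, (symI k A).restrictScalars k ∘ₗ
    ((TensorProduct.mk BB II II).flip (ε i)).restrictScalars k ∘ₗ rho k A ∘ₗ Dop (φ i)
  have hΛ : ∀ x, Λ x = ∑ i, symI k A (rho k A (Dop (φ i) x) ⊗ₜ ε i) := fun x => by
    simp [Λ]
  have hcomm : ∀ a b : II, symI k A (b ⊗ₜ a) = symI k A (a ⊗ₜ b) := fun a b => by
    rw [symI_tmul, symI_tmul, add_comm]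
  have key : ∀ (i : ℕ) (a b : II), (a : BB) ∈ II ^ (i + 1) →
      Λ ((a : BB) * b) - (i + 2) • symI k A (a ⊗ₜ b) ∈ II ^ (i + 1) • LinearMap.range (symI k A) := by
    intro i a b ha
    have e1 : Λ ((a : BB) * b) = symI k A ((⟨euler φ ε (a : BB),
          Ideal.sum_mem _ fun l _ => Ideal.mul_mem_left _ _ (ε l).2⟩ : II) ⊗ₜ b)
        + symI k A (a ⊗ₜ (⟨euler φ ε (b : BB),
          Ideal.sum_mem _ fun l _ => Ideal.mul_mem_left _ _ (ε l).2⟩ : II)) := by
      have er : ∀ l, rho k A (Dop (φ l) ((a : BB) * b))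
          = Dop (φ l) (a : BB) • b + Dop (φ l) (b : BB) • a := fun l => by
        rw [← rho_coe k A (Dop (φ l) (a : BB) • b + Dop (φ l) (b : BB) • a), Dop_mul]
        congr 1
        simp only [Submodule.coe_add, SetLike.val_smul, smul_eq_mul]; ring
      have s1 : (⟨euler φ ε (a : BB), Ideal.sum_mem _ fun l _ => Ideal.mul_mem_left _ _ (ε l).2⟩ : II)
          = ∑ l, Dop (φ l) (a : BB) • ε l := Subtype.ext (by simp [euler])
      have s2 : (⟨euler φ ε (b : BB), Ideal.sum_mem _ fun l _ => Ideal.mul_mem_left _ _ (ε l).2⟩ : II)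
          = ∑ l, Dop (φ l) (b : BB) • ε l := Subtype.ext (by simp [euler])
      rw [hΛ, s1, s2, sum_tmul, tmul_sum, map_sum, map_sum, ← Finset.sum_add_distrib]
      refine Finset.sum_congr rfl fun l _ => ?_
      rw [er, add_tmul, map_add, TensorProduct.smul_tmul, TensorProduct.smul_tmul _ a,
        hcomm b (Dop (φ l) (a : BB) • ε l)]
    have d1 : (⟨euler φ ε (a : BB), Ideal.sum_mem _ fun l _ => Ideal.mul_mem_left _ _ (ε l).2⟩ : II)
        ⊗ₜ[BB] b - (i + 1) • (a ⊗ₜ[BB] b) = ((⟨euler φ ε (a : BB),
          Ideal.sum_mem _ fun l _ => Ideal.mul_mem_left _ _ (ε l).2⟩ : II) - (i + 1) • a) ⊗ₜ[BB] b := by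
      rw [sub_tmul, smul_tmul']
    have m1 : symI k A (((⟨euler φ ε (a : BB),
          Ideal.sum_mem _ fun l _ => Ideal.mul_mem_left _ _ (ε l).2⟩ : II) - (i + 1) • a) ⊗ₜ[BB] b)
        ∈ II ^ (i + 1) • LinearMap.range (symI k A) := by
      refine symI_mem_smul _ _ _ ?_
      have := euler_sub_mem φ e he ε hε (i + 1) ha
      convert this using 1
      simp [nsmul_eq_mul]
    have m2 : symI k A (a ⊗ₜ[BB] ((⟨euler φ ε (b : BB),
          Ideal.sum_mem _ fun l _ => Ideal.mul_mem_left _ _ (ε l).2⟩ : II) - b))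
        ∈ II ^ (i + 1) • LinearMap.range (symI k A) := by
      have hsq : ∀ w : BB, w ∈ II ^ 2 →
          symI k A (a ⊗ₜ[BB] rho k A w) ∈ II ^ (i + 1) • LinearMap.range (symI k A) := by
        intro w hw2
        rw [pow_two] at hw2
        refine Submodule.mul_induction_on hw2 (fun x hx y hy => ?_) (fun x y hx hy => ?_)
        · rw [show rho k A (x * y) = x • (⟨y, hy⟩ : II) from rho_coe k A (x • (⟨y, hy⟩ : II)),
            ← smul_tmul]
          refine symI_mem_smul _ _ _ ?_
          rw [pow_succ', SetLike.val_smul, smul_eq_mul]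
          exact Ideal.mul_mem_mul hx ha
        · rw [map_add, tmul_add, map_add]
          exact add_mem hx hy
      have h2 := euler_sub_mem φ e he ε hε 1 (z := (b : BB)) (by rw [pow_one]; exact b.2)
      rw [Nat.cast_one, one_mul] at h2
      rw [← rho_coe k A (_ - b)]
      exact hsq _ h2
    convert add_mem m1 m2 using 1
    rw [e1, ← d1, tmul_sub, map_sub, map_sub, map_nsmul]
    module
  have step : ∀ i : ℕ, symI k A η ∈ II ^ i • LinearMap.range (symI k A) := by
    intro i
    induction i with
    | zero => simp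
    | succ i ih =>
      have hlin : ∀ z ∈ II ^ i • LinearMap.range (symI k A),
          Λ (mulI k A z) - (2 * (i + 2)) • z ∈ II ^ (i + 1) • LinearMap.range (symI k A) := by
        intro z hz
        induction hz using Submodule.smul_induction_on' with
        | smul r hr w hw =>
          obtain ⟨w, rfl⟩ := hw
          induction w using TensorProduct.induction_on with
          | zero => simp
          | add u v hu hv =>
            convert add_mem hu hv using 1
            simp only [map_add, smul_add]; abel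
          | tmul f g =>
            have hrf : ((r • f : II) : BB) ∈ II ^ (i + 1) := by
              rw [pow_succ, SetLike.val_smul, smul_eq_mul]; exact Ideal.mul_mem_mul hr f.2
            convert add_mem (key i (r • f) g hrf) (key i (r • f) g hrf) using 1
            have hm : mulI k A (r • symI k A (f ⊗ₜ g))
                = ((r • f : II) : BB) * g + ((r • f : II) : BB) * g := by
              rw [map_smul, symI_tmul, map_add, mulI_tmul, mulI_tmul, SetLike.val_smul]
              simp only [smul_eq_mul]; ring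
            rw [hm, map_add, ← smul_tmul', map_smul, two_mul, add_smul]
            abel
        | add u hu v hv hu' hv' =>
          convert add_mem hu' hv' using 1
          simp only [map_add, smul_add]; abel
      have hm0 : mulI k A (symI k A η) = 0 := by
        have : mulI k A ∘ₗ symI k A = (2 : BB) • mulI k A := TensorProduct.ext' fun f g => by
          simp [symI_tmul]; ring
        have h2 := LinearMap.congr_fun this η
        simp only [LinearMap.comp_apply, LinearMap.smul_apply, h, smul_zero] at h2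
        exact h2
      have h3 := hlin _ ih
      have h3 : (2 * (i + 2)) • symI k A η ∈ II ^ (i + 1) • LinearMap.range (symI k A) := by
        rw [hm0, map_zero] at h3
        exact mem_of_zero_sub_mem (R := BB) (M := EE) (N := II ^ (i + 1) • LinearMap.range (symI k A)) (x := (2 * (i + 2)) • symI k A η) h3
      have hu : IsUnit ((2 * (i + 2) : ℕ) : BB) := by
        rw [← map_natCast (algebraMap k BB)]
        exact (hchar _ (by omega)).map _
      rw [← Nat.cast_smul_eq_nsmul BB] at h3
      obtain ⟨u, hu⟩ := hu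
      have := Submodule.smul_mem _ ((u⁻¹ : (BB)ˣ) : BB) h3
      rwa [← hu, smul_smul, Units.inv_mul, one_smul] at this
  have hmem : symI k A η ∈ (⨅ i : ℕ, II ^ i • ⊤ : Submodule BB EE) :=
    Submodule.mem_iInf _ |>.2 fun i => Submodule.smul_mono le_rfl le_top (step i)
  obtain ⟨⟨r, hr⟩, hrx⟩ : ∃ r : II, (r : BB) • symI k A η = symI k A η := by
    refine ((II).mem_iInf_smul_pow_eq_bot_iff (M := EE) (symI k A η)).1 ?_
    exact hmem
  have hkill : ∀ w : EE, r • w = (⟨r, hr⟩ : II) ⊗ₜ[BB]
      (⟨mulI k A w, by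
        induction w using TensorProduct.induction_on with
        | zero => simp
        | tmul f g => rw [mulI_tmul]; exact Ideal.mul_mem_right _ _ f.2
        | add u v hu hv => rw [map_add]; exact add_mem hu hv⟩ : II) := by
    intro w
    induction w using TensorProduct.induction_on with
    | zero =>
      simp only [map_zero, smul_zero]
      exact (tmul_zero _ _).symm
    | tmul f g =>
      have h1 : (r • f : II) = (f : BB) • (⟨r, hr⟩ : II) := Subtype.ext (mul_comm _ _)
      rw [smul_tmul', h1, smul_tmul]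
      exact congrArg _ (Subtype.ext (mulI_tmul f g).symm)
    | add u v hu hv =>
      rw [smul_add, hu, hv, ← tmul_add]
      congr 1
      exact Subtype.ext (map_add _ _ _).symm
  rw [← hrx]
  change r • symI k A η = 0
  rw [← map_smul, hkill]
  have : (⟨mulI k A η, by rw [h]; exact zero_mem _⟩ : II) = 0 := Subtype.ext h
  rw [this, tmul_zero, map_zero]

end Groth.L08.Diag
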