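import Groth.Agent.L08.Diag.Perm
import Groth.Agent.L08.Diag.Quasi

/-!
Three diagonals in `A⊗A⊗A`: invariant elements of the intersection lie in the product.
-/

namespace Groth.L08.Diag

attribute [-simp] PiTensorProduct.singleAlgHom_apply

open TensorProduct KaehlerDifferential

universe u v

variable {k : Type u} {A : Type v} [CommRing k] [CommRing A] [Algebra k A] {n : ℕ}

/-- the algebra map on `A^{⊗ n}` with given restriction to every factor -/
noncomputable def liftFactors {S : Type*} [CommRing S] [Algebra k S] (f : Fin n → A →ₐ[k] S) :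
    (⨂[k] _ : Fin n, A) →ₐ[k] S :=
  PiTensorProduct.liftAlgHom
    ((MultilinearMap.mkPiAlgebra k (Fin n) S).compLinearMap fun i => (f i).toLinearMap)
    (by simp) (fun x y => by simp [Finset.prod_mul_distrib])

@[simp] theorem liftFactors_sgl {S : Type*} [CommRing S] [Algebra k S] (f : Fin n → A →ₐ[k] S)
    (i : Fin n) (a : A) : liftFactors f (sgl i a) = f i a := by
  simp only [liftFactors, sgl, PiTensorProduct.singleAlgHom_apply,
    PiTensorProduct.liftAlgHom_apply, PiTensorProduct.lift.tprod,
    MultilinearMap.compLinearMap_apply, MultilinearMap.mkPiAlgebra_apply,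
    MonoidHom.mulSingle_apply]
  rw [Finset.prod_eq_single i (fun j _ hj => by simp [Pi.mulSingle_eq_of_ne hj])
    (by simp), Pi.mulSingle_eq_same]
  rfl

variable (k A) in
/-- move the factor `i` to the factor `j` -/
noncomputable def collapse (i j : Fin n) : (⨂[k] _ : Fin n, A) →ₐ[k] ⨂[k] _ : Fin n, A :=
  liftFactors (fun l => sgl (k := k) (A := A) (if l = i then j else l))

theorem collapse_sgl (i j l : Fin n) (a : A) :
    collapse k A i j (sgl l a) = sgl (if l = i then j else l) a := liftFactors_sgl _ _ _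

theorem sub_collapse_mem (i j : Fin n) (x : ⨂[k] _ : Fin n, A) :
    x - collapse k A i j x ∈ diagI k A i j := by
  let S : Subalgebra k (⨂[k] _ : Fin n, A) :=
    { carrier := {y | y - collapse k A i j y
        ∈ diagI k A i j}
      mul_mem' := fun {x y} (hx : x - _ ∈ diagI k A i j) (hy : y - _ ∈ diagI k A i j) => by
        change x * y - collapse k A i j (x * y)
          ∈ diagI k A i j
        rw [map_mul]
        convert Ideal.add_mem _ (Ideal.mul_mem_right y _ hx)
          (Ideal.mul_mem_left _ (collapse k A i j x) hy)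
          using 1
        ring
      add_mem' := fun {x y} (hx : x - _ ∈ diagI k A i j) (hy : y - _ ∈ diagI k A i j) => by
        change x + y - collapse k A i j (x + y)
          ∈ diagI k A i j
        rw [map_add]
        convert Ideal.add_mem _ hx hy using 1
        ring
      algebraMap_mem' := fun r => by simp }
  refine mem_of_sgl (S := S) (fun l a => ?_) x
  change sgl l a - collapse k A i j (sgl l a) ∈ diagI k A i j
  rw [collapse_sgl]
  split_ifs with h
  · subst h; exact sgl_sub_mem _ _ a
  · rw [sub_self]; exact zero_mem _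

theorem diagI_le_ker {S : Type*} [CommRing S] [Algebra k S] (f : (⨂[k] _ : Fin n, A) →ₐ[k] S)
    {i j : Fin n} (h : ∀ a, f (sgl i a) = f (sgl j a)) : diagI k A i j ≤ RingHom.ker f := by
  refine Ideal.span_le.2 ?_
  rintro _ ⟨a, rfl⟩
  simp only [SetLike.mem_coe, RingHom.mem_ker, map_sub, h, sub_self]

theorem diagI_map (σ : Equiv.Perm (Fin n)) (i j : Fin n) :
    (diagI k A i j).map (permHom k A σ) = diagI k A (σ i) (σ j) := by
  rw [diagI, diagI, Ideal.map_span, ← Set.range_comp]
  congr 2
  funext a
  simp only [Function.comp_apply, map_sub, permHom_sgl]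

theorem diagI_comm (i j : Fin n) : diagI k A i j = diagI k A j i := by
  have : ∀ i j : Fin n, diagI k A i j ≤ diagI k A j i := fun i j => Ideal.span_le.2 (by
    rintro _ ⟨a, rfl⟩
    simpa using (diagI k A j i).neg_mem (sgl_sub_mem j i a))
  exact le_antisymm (this i j) (this j i)

local notation "R3" => ⨂[k] _ : Fin 3, A
local notation "BB" => A ⊗[k] A
local notation "II" => KaehlerDifferential.ideal k A
local notation "EE" => (KaehlerDifferential.ideal k A) ⊗[A ⊗[k] A] (KaehlerDifferential.ideal k A)

theorem mem_mul_of_mem_inf {x : R3} (h1 : x ∈ diagI k A 0 1) (h2 : x ∈ diagI k A 1 2) :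
    x ∈ diagI k A 0 1 * diagI k A 1 2 := by
  let p := liftFactors (fun l => sgl (k := k) (A := A) (if l = (0 : Fin 3) then 1 else l))
  let q := liftFactors (fun l => sgl (k := k) (A := A) (if l = (2 : Fin 3) then 1 else l))
  have key : ∀ y : R3, y - p y - q y + p (q y) ∈ diagI k A 0 1 * diagI k A 1 2 := by
    intro y
    induction y using PiTensorProduct.induction_on with
    | smul_tprod r f =>
      rw [tprod_eq_prod, Fin.prod_univ_three]
      simp only [map_smul, map_mul, p, q, liftFactors_sgl, Fin.isValue, Fin.reduceEq, if_true,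
        if_false]
      rw [← smul_sub, ← smul_sub, ← smul_add]
      refine Submodule.smul_of_tower_mem _ r ?_
      have := Ideal.mul_mem_left _ (-(sgl (k := k) (1 : Fin 3) (f 1)))
        (Ideal.mul_mem_mul (sgl_sub_mem (k := k) (0 : Fin 3) 1 (f 0))
          (sgl_sub_mem (k := k) (1 : Fin 3) 2 (f 2)))
      convert this using 1
      ring
    | add y z hy hz =>
      convert Ideal.add_mem _ hy hz using 1
      simp only [map_add]; ring
  have hp : p x = 0 := diagI_le_ker p (fun a => by simp [p]) h1
  have hq : q x = 0 := diagI_le_ker q (fun a => by simp [q]) h2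
  have := key x
  rwa [hp, hq, map_zero, sub_zero, sub_zero, add_zero] at this

variable (k A)

noncomputable def j01 : BB →ₐ[k] R3 :=
  Algebra.TensorProduct.lift (sgl 0) (sgl 1) fun _ _ => Commute.all _ _

noncomputable def j21 : BB →ₐ[k] R3 :=
  Algebra.TensorProduct.lift (sgl 2) (sgl 1) fun _ _ => Commute.all _ _

noncomputable def P3 : Ideal R3 := diagI k A 0 1 * diagI k A 1 2 * diagI k A 0 2

variable {k A}

@[simp] theorem j01_tmul (a b : A) : j01 k A (a ⊗ₜ b) = sgl 0 a * sgl 1 b := by simp [j01]
@[simp] theorem j21_tmul (a b : A) : j21 k A (a ⊗ₜ b) = sgl 2 a * sgl 1 b := by simp [j21]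

theorem j_ideal (f : II) :
    j01 k A (f : BB) ∈ diagI k A 0 1 ∧ j21 k A (f : BB) ∈ diagI k A 1 2 := by
  have : II ≤ (diagI k A 0 1).comap (j01 k A) ⊓ (diagI k A 1 2).comap (j21 k A) := by
    rw [← KaehlerDifferential.span_range_eq_ideal, Ideal.span_le]
    rintro _ ⟨a, rfl⟩
    constructor
    · rw [SetLike.mem_coe, Ideal.mem_comap, map_sub, j01_tmul, j01_tmul, map_one, one_mul, map_one,
        mul_one, ← neg_sub]
      exact neg_mem (sgl_sub_mem _ _ a)
    · rw [SetLike.mem_coe, Ideal.mem_comap, map_sub, j21_tmul, j21_tmul, map_one, one_mul, map_one,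
        mul_one]
      exact sgl_sub_mem _ _ a
  exact this f.2

theorem j_sub_mem (c : BB) : j21 k A c - j01 k A c ∈ diagI k A 0 2 := by
  induction c using TensorProduct.induction_on with
  | zero => simp
  | tmul a b =>
    rw [j21_tmul, j01_tmul, ← sub_mul, ← neg_sub]
    exact Ideal.mul_mem_right _ _ (neg_mem (sgl_sub_mem _ _ a))
  | add x y hx hy =>
    convert Ideal.add_mem _ hx hy using 1
    simp only [map_add]; ring

variable (k A) in
/-- `f ⊗ g ↦ f(t₁,t₂) g(t₃,t₂)` modulo the product of the three ideals -/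
noncomputable def Gam : EE →+ R3 ⧸ P3 k A :=
  TensorProduct.liftAddHom
    { toFun := fun f =>
        { toFun := fun g => Ideal.Quotient.mk _ (j01 k A (f : BB) * j21 k A (g : BB))
          map_zero' := by simp
          map_add' := fun g h => by simp [mul_add] }
      map_zero' := by ext; simp
      map_add' := fun f h => by ext; simp [add_mul] }
    (fun c f g => by
      simp only [AddMonoidHom.coe_mk, ZeroHom.coe_mk, Submodule.coe_smul, smul_eq_mul]
      rw [map_mul (j01 k A), map_mul (j21 k A), Ideal.Quotient.eq]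
      have h := Ideal.mul_mem_mul (Ideal.mul_mem_mul (j_ideal f).1 (j_ideal g).2) (j_sub_mem c)
      rw [P3]
      convert neg_mem h using 1
      ring)

@[simp] theorem Gam_tmul (f g : II) :
    Gam k A (f ⊗ₜ g) = Ideal.Quotient.mk _ (j01 k A (f : BB) * j21 k A (g : BB)) := rfl

theorem mk_mul_Gam (r : R3) (η : EE) :
    ∃ c : BB, Ideal.Quotient.mk (P3 k A) r * Gam k A η = Gam k A (c • η) := by
  let col := liftFactors (fun l => sgl (k := k) (A := A) (if l = (2 : Fin 3) then 0 else l))
  let back : R3 →ₐ[k] BB := liftFactors ![Algebra.TensorProduct.includeLeft,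
    Algebra.TensorProduct.includeRight, Algebra.TensorProduct.includeLeft]
  have hb : (j01 k A).comp back = col := by
    ext i a
    change j01 k A (back (sgl i a)) = col (sgl i a)
    simp only [back, col, liftFactors_sgl]
    fin_cases i <;> simp
  refine ⟨back r, ?_⟩
  have hz : r - j01 k A (back r) ∈ diagI k A 0 2 := by
    rw [← AlgHom.comp_apply, hb, diagI_comm]
    exact sub_collapse_mem 2 0 r
  induction η using TensorProduct.induction_on with
  | zero => simp
  | add x y hx hy => rw [map_add, mul_add, hx, hy, smul_add, map_add]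
  | tmul f g =>
    rw [TensorProduct.smul_tmul', Gam_tmul, Gam_tmul, ← map_mul, Ideal.Quotient.eq,
      Submodule.coe_smul, smul_eq_mul, map_mul]
    have h := Ideal.mul_mem_mul (Ideal.mul_mem_mul (j_ideal f).1 (j_ideal g).2) hz
    rw [P3]
    convert h using 1
    ring

theorem exists_Gam {y : R3} (hy : y ∈ diagI k A 0 1 * diagI k A 1 2) :
    ∃ η : EE, Ideal.Quotient.mk (P3 k A) y = Gam k A η := by
  rw [diagI, diagI, Ideal.span_mul_span'] at hy
  induction hy using Submodule.span_induction with
  | mem z hz =>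
    obtain ⟨_, ⟨a, rfl⟩, _, ⟨b, rfl⟩, rfl⟩ := hz
    refine ⟨(-⟨1 ⊗ₜ a - a ⊗ₜ 1, KaehlerDifferential.one_smul_sub_smul_one_mem_ideal k a⟩ : II)
      ⊗ₜ (⟨1 ⊗ₜ b - b ⊗ₜ 1, KaehlerDifferential.one_smul_sub_smul_one_mem_ideal k b⟩ : II), ?_⟩
    rw [Gam_tmul]
    congr 1
    simp only [NegMemClass.coe_neg, map_neg, map_sub, j01_tmul, j21_tmul, map_one, one_mul, mul_one]
    ring
  | zero => exact ⟨0, by simp⟩
  | add u v _ _ hu hv =>
    obtain ⟨a, ha⟩ := hu
    obtain ⟨b, hb⟩ := hv
    exact ⟨a + b, by rw [map_add, map_add, ha, hb]⟩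
  | smul r u _ hu =>
    obtain ⟨a, ha⟩ := hu
    obtain ⟨c, hc⟩ := mk_mul_Gam r a
    exact ⟨c • a, by rw [smul_eq_mul, map_mul, ha, hc]⟩

/-- invariant elements of the intersection of the three diagonal ideals lie in their product -/
theorem mem_P3 [Module.Projective A Ω[A⁄k]] [Module.Finite A Ω[A⁄k]] [IsNoetherianRing BB]
    (hchar : ∀ m : ℕ, 0 < m → IsUnit (m : k)) {x : R3}
    (hx : permHom k A (Equiv.swap 0 2) x = x) (h01 : x ∈ diagI k A 0 1)
    (h02 : x ∈ diagI k A 0 2) (h12 : x ∈ diagI k A 1 2) : x ∈ P3 k A := by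
  obtain ⟨η, hη⟩ := exists_Gam (mem_mul_of_mem_inf h01 h12)
  let σ := permHom k A (Equiv.swap (0 : Fin 3) 2)
  have hσP : P3 k A ≤ (P3 k A).comap σ := by
    rw [← Ideal.map_le_iff_le_comap, P3, Ideal.map_mul, Ideal.map_mul, diagI_map, diagI_map,
      diagI_map, Equiv.swap_apply_left, Equiv.swap_apply_right,
      Equiv.swap_apply_of_ne_of_ne (by decide) (by decide), diagI_comm 2 1, diagI_comm 1 0,
      diagI_comm 2 0, mul_comm (diagI k A 1 2)]
  let τ : R3 ⧸ P3 k A →+* R3 ⧸ P3 k A := Ideal.quotientMap (P3 k A) (σ : R3 →+* R3) hσP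
  have hσj : ∀ c, σ (j01 k A c) = j21 k A c ∧ σ (j21 k A c) = j01 k A c := by
    intro c
    induction c using TensorProduct.induction_on with
    | zero => simp
    | tmul a b =>
      simp only [σ, j01_tmul, j21_tmul, map_mul, permHom_sgl, Equiv.swap_apply_left,
        Equiv.swap_apply_right, Equiv.swap_apply_of_ne_of_ne (show (1 : Fin 3) ≠ 0 by decide)
          (show (1 : Fin 3) ≠ 2 by decide), and_self]
    | add u v hu hv => simp only [map_add, hu.1, hu.2, hv.1, hv.2, and_self]
  have hτ : ∀ ξ : EE, τ (Gam k A ξ) = Gam k A (TensorProduct.comm BB II II ξ) := by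
    intro ξ
    induction ξ using TensorProduct.induction_on with
    | zero => simp
    | add u v hu hv => simp only [map_add, hu, hv]
    | tmul f g =>
      rw [TensorProduct.comm_tmul, Gam_tmul, Gam_tmul]
      change Ideal.quotientMap _ _ hσP (Ideal.Quotient.mk _ _) = _
      rw [Ideal.quotientMap_mk]
      congr 1
      change σ _ = _
      rw [map_mul, (hσj _).1, (hσj _).2, mul_comm]
  let back : R3 →ₐ[k] BB := liftFactors ![Algebra.TensorProduct.includeLeft,
    Algebra.TensorProduct.includeRight, Algebra.TensorProduct.includeLeft]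
  have hz : diagI k A 0 2 ≤ RingHom.ker back := diagI_le_ker back fun a => by simp [back]
  have hPk : P3 k A ≤ RingHom.ker back := (Ideal.mul_le_inf.trans inf_le_right).trans hz
  let β : R3 ⧸ P3 k A →+* BB := Ideal.Quotient.lift _ (back : R3 →+* BB) hPk
  have hβ : ∀ ξ : EE, β (Gam k A ξ) = mulI k A ξ := by
    intro ξ
    induction ξ using TensorProduct.induction_on with
    | zero => simp
    | add u v hu hv => simp only [map_add, hu, hv]
    | tmul f g =>
      have hj : ∀ c, back (j01 k A c) = c ∧ back (j21 k A c) = c := by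
        intro c
        induction c using TensorProduct.induction_on with
        | zero => simp
        | tmul a b => simp [back]
        | add u v hu hv => simp only [map_add, hu.1, hu.2, hv.1, hv.2, and_self]
      rw [Gam_tmul, mulI_tmul]
      change Ideal.Quotient.lift _ (back : R3 →+* BB) hPk (Ideal.Quotient.mk _ _) = _
      rw [Ideal.Quotient.lift_mk]
      change back _ = _
      rw [map_mul, (hj _).1, (hj _).2]
  have hm : mulI k A η = 0 := by
    rw [← hβ, ← hη]
    exact hz h02
  have hsym := eq_zero_of_mulI hchar η hm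
  have h2 : Ideal.Quotient.mk (P3 k A) x + Ideal.Quotient.mk (P3 k A) x = 0 := by
    have e : Ideal.Quotient.mk (P3 k A) x = Gam k A (TensorProduct.comm BB II II η) := by
      rw [← hτ, ← hη]
      change _ = Ideal.quotientMap _ _ hσP (Ideal.Quotient.mk _ _)
      rw [Ideal.quotientMap_mk]
      exact congrArg _ hx.symm
    nth_rewrite 1 [hη]
    rw [e, ← map_add]
    have : η + TensorProduct.comm BB II II η = symI k A η := rfl
    rw [this, hsym, map_zero]
  rw [← map_add, Ideal.Quotient.eq_zero_iff_mem] at h2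
  have h2' : algebraMap k R3 2 * x ∈ P3 k A := by
    rw [map_ofNat, two_mul]; exact h2
  exact (Ideal.unit_mul_mem_iff_mem _ ((show IsUnit (2 : k) by
    simpa using hchar 2 two_pos).map (algebraMap k R3))).1 h2'

end Groth.L08.Diag
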