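import Mathlib.RingTheory.Kaehler.Basic
import Mathlib.LinearAlgebra.TensorProduct.Tower

/-!
`Ω[A⁄k]` as the quotient of `A ⊗ A` by the Hochschild relations: linear maps out of it.
-/

namespace Groth.L08.Diag

open TensorProduct KaehlerDifferential

universe u v w

variable {k : Type u} {A : Type v} [CommRing k] [CommRing A] [Algebra k A]
  {Q : Type w} [AddCommGroup Q] [Module k Q]

theorem exists_lift (φ : A ⊗[k] A →ₗ[k] Q)
    (h : ∀ a b c : A, φ (a ⊗ₜ (b * c)) = φ ((a * b) ⊗ₜ c) + φ ((a * c) ⊗ₜ b)) :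
    ∃ Φ : Ω[A⁄k] →ₗ[k] Q, ∀ a b : A, Φ (a • KaehlerDifferential.D k A b) = φ (a ⊗ₜ b) := by
  have h1 : ∀ a : A, φ (a ⊗ₜ 1) = 0 := fun a => by
    have := h a 1 1
    simp only [mul_one] at this
    simpa using this
  let Ψ : (A →₀ A) →ₗ[k] Q := Finsupp.lsum k fun b => φ.comp ((TensorProduct.mk k A A).flip b)
  have hs : ∀ a b : A, Ψ (Finsupp.single b a) = φ (a ⊗ₜ b) := fun a b => by simp [Ψ]
  have hker : (kerTotal k A).restrictScalars k ≤ LinearMap.ker Ψ := by
    intro v hv
    suffices hh : ∀ a : A, Ψ (a • v) = 0 by simpa using hh 1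
    induction (hv : v ∈ kerTotal k A) using Submodule.span_induction with
    | mem x hx =>
      intro a
      rcases hx with (⟨⟨x, y⟩, rfl⟩ | ⟨⟨x, y⟩, rfl⟩) | ⟨r, rfl⟩
      · simp [smul_add, smul_sub, hs, tmul_add]
      · simp [smul_add, smul_sub, hs, h]
      · simp [hs, Algebra.algebraMap_eq_smul_one, h1]
    | zero => simp
    | add x y _ _ hx hy => intro a; rw [smul_add, map_add, hx a, hy a, add_zero]
    | smul c x _ hx => intro a; rw [smul_smul]; exact hx _
  refine ⟨((kerTotal k A).restrictScalars k).liftQ Ψ hker ∘ₗ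
    ((quotKerTotalEquiv k A).symm.restrictScalars k).toLinearMap, fun a b => ?_⟩
  have he : (quotKerTotalEquiv k A).symm (a • KaehlerDifferential.D k A b)
      = (kerTotal k A).mkQ (Finsupp.single b a) := by
    apply (quotKerTotalEquiv k A).injective
    rw [LinearEquiv.apply_symm_apply]
    simp [quotKerTotalEquiv]
  change ((kerTotal k A).restrictScalars k).liftQ Ψ hker
    ((quotKerTotalEquiv k A).symm (a • KaehlerDifferential.D k A b)) = _
  rw [he]
  exact hs a b

/-- every one-form is a linear combination of `a • db` -/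
theorem span_smul_D : Submodule.span k
    (Set.range fun p : A × A => p.1 • KaehlerDifferential.D k A p.2) = ⊤ := by
  rw [eq_top_iff]
  intro ω _
  obtain ⟨l, rfl⟩ := linearCombination_surjective k A ω
  rw [Finsupp.linearCombination_apply]
  exact Submodule.sum_mem _ fun b _ => Submodule.subset_span ⟨(l b, b), rfl⟩

theorem kaehler_ext {f g : Ω[A⁄k] →ₗ[k] Q}
    (h : ∀ a b : A, f (a • KaehlerDifferential.D k A b) = g (a • KaehlerDifferential.D k A b)) :
    f = g := LinearMap.ext_on_range span_smul_D fun p => h p.1 p.2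

end Groth.L08.Diag
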