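import Mathlib.RingTheory.PiTensorProduct
import Mathlib.Algebra.Algebra.Subalgebra.Lattice
import Mathlib.RingTheory.Ideal.Operations
import Mathlib.RingTheory.Ideal.Maps
import Mathlib.Algebra.BigOperators.Pi
import Mathlib.Tactic.Ring
import Mathlib.Tactic.LinearCombination

/-!
Permutations of the factors of `A^{⊗ n}` as algebra maps; involutions and powers of ideals.
-/

namespace Groth.L08.Diag

open TensorProduct PiTensorProduct

universe u v

variable {k : Type u} {A : Type v} [CommRing k] [CommRing A] [Algebra k A] {n : ℕ}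

/-- `a` placed in factor `i` -/
noncomputable abbrev sgl (i : Fin n) : A →ₐ[k] ⨂[k] _ : Fin n, A :=
  PiTensorProduct.singleAlgHom (R := k) (A := fun _ : Fin n => A) i

theorem tprod_eq_prod (f : Fin n → A) :
    PiTensorProduct.tprod k f = ∏ i, sgl (k := k) i (f i) := by
  conv_lhs => rw [← Finset.univ_prod_mulSingle f]
  rw [PiTensorProduct.tprod_prod]
  rfl

theorem mem_of_sgl {S : Subalgebra k (⨂[k] _ : Fin n, A)} (h : ∀ i a, sgl i a ∈ S)
    (x : ⨂[k] _ : Fin n, A) : x ∈ S := by
  induction x using PiTensorProduct.induction_on with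
  | smul_tprod r f =>
    rw [tprod_eq_prod]
    exact S.smul_mem (S.prod_mem fun i _ => h i _) r
  | add x y hx hy => exact S.add_mem hx hy

variable (k A) in
/-- the automorphism permuting the factors -/
noncomputable def permHom (σ : Equiv.Perm (Fin n)) : (⨂[k] _ : Fin n, A) →ₐ[k] ⨂[k] _ : Fin n, A :=
  AlgHom.ofLinearMap (PiTensorProduct.reindex k (fun _ : Fin n => A) σ).toLinearMap
    (by
      change PiTensorProduct.reindex k (fun _ : Fin n => A) σ (PiTensorProduct.tprod k 1) = _
      rw [PiTensorProduct.reindex_tprod]; rfl)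
    (fun x y => by
      induction x using PiTensorProduct.induction_on with
      | smul_tprod r f =>
        induction y using PiTensorProduct.induction_on with
        | smul_tprod r' g =>
          simp only [LinearEquiv.coe_coe, smul_mul_smul_comm, map_smul, PiTensorProduct.tprod_mul_tprod,
            PiTensorProduct.reindex_tprod]
          rfl
        | add x y hx hy => simp only [mul_add, map_add, hx, hy]
      | add x y hx hy => simp only [add_mul, map_add, hx, hy])

theorem permHom_apply (σ : Equiv.Perm (Fin n)) (x : ⨂[k] _ : Fin n, A) :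
    permHom k A σ x = PiTensorProduct.reindex k (fun _ : Fin n => A) σ x := rfl

@[simp] theorem permHom_sgl (σ : Equiv.Perm (Fin n)) (i : Fin n) (a : A) :
    permHom k A σ (sgl i a) = sgl (σ i) a := by
  rw [permHom_apply]
  simp only [sgl, PiTensorProduct.singleAlgHom_apply, PiTensorProduct.reindex_tprod]
  congr 1
  funext l
  simp only [MonoidHom.mulSingle_apply, Pi.mulSingle_apply, Equiv.symm_apply_eq]

/-- the ideal of the diagonal of the factors `i` and `j` -/
noncomputable def diagI (k A : Type*) [CommRing k] [CommRing A] [Algebra k A] {n : ℕ} (i j : Fin n) :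
    Ideal (⨂[k] _ : Fin n, A) :=
  Ideal.span (Set.range fun a : A => sgl (k := k) i a - sgl j a)

theorem sgl_sub_mem (i j : Fin n) (a : A) : sgl (k := k) i a - sgl j a ∈ diagI k A i j :=
  Ideal.subset_span ⟨a, rfl⟩

theorem swap_sub_self_mem (i j : Fin n) (y : ⨂[k] _ : Fin n, A) :
    permHom k A (Equiv.swap i j) y - y ∈ diagI k A i j := by
  let S : Subalgebra k (⨂[k] _ : Fin n, A) :=
    { carrier := {y | permHom k A (Equiv.swap i j) y - y ∈ diagI k A i j}
      mul_mem' := fun {x y} (hx : permHom k A (Equiv.swap i j) x - x ∈ diagI k A i j)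
          (hy : permHom k A (Equiv.swap i j) y - y ∈ diagI k A i j) => by
        change permHom k A (Equiv.swap i j) (x * y) - x * y ∈ diagI k A i j
        rw [map_mul]
        convert Ideal.add_mem _ (Ideal.mul_mem_right (permHom k A (Equiv.swap i j) y) _ hx)
          (Ideal.mul_mem_left _ x hy) using 1
        ring
      add_mem' := fun {x y} (hx : permHom k A (Equiv.swap i j) x - x ∈ diagI k A i j)
          (hy : permHom k A (Equiv.swap i j) y - y ∈ diagI k A i j) => by
        change permHom k A (Equiv.swap i j) (x + y) - (x + y) ∈ diagI k A i j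
        rw [map_add]
        convert Ideal.add_mem _ hx hy using 1
        ring
      algebraMap_mem' := fun r => by simp }
  refine mem_of_sgl (S := S) (fun l a => ?_) y
  change permHom k A (Equiv.swap i j) (sgl l a) - sgl l a ∈ diagI k A i j
  rw [permHom_sgl]
  rcases eq_or_ne l i with rfl | hi
  · rw [Equiv.swap_apply_left, ← neg_sub]
    exact neg_mem (sgl_sub_mem _ _ a)
  rcases eq_or_ne l j with rfl | hj
  · rw [Equiv.swap_apply_right]
    exact sgl_sub_mem _ _ a
  rw [Equiv.swap_apply_of_ne_of_ne hi hj, sub_self]
  exact zero_mem _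

theorem swap_add_self_mem (i j : Fin n) {z : ⨂[k] _ : Fin n, A} (hz : z ∈ diagI k A i j) :
    permHom k A (Equiv.swap i j) z + z ∈ diagI k A i j ^ 2 := by
  induction hz using Submodule.span_induction with
  | mem z hz =>
    obtain ⟨a, rfl⟩ := hz
    rw [map_sub, permHom_sgl, permHom_sgl, Equiv.swap_apply_left, Equiv.swap_apply_right,
      sub_add_sub_cancel, sub_self]
    exact zero_mem _
  | zero => simp
  | add x y _ _ hx hy =>
    rw [map_add]
    convert Ideal.add_mem _ hx hy using 1
    ring
  | smul c x hx' hx =>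
    have h1 : permHom k A (Equiv.swap i j) x ∈ diagI k A i j := by
      have := Ideal.sub_mem _ (Ideal.pow_le_self two_ne_zero hx) hx'
      simpa using this
    rw [smul_eq_mul, map_mul]
    convert Ideal.add_mem _ (Ideal.mul_mem_left _ c hx)
      ((pow_two (diagI k A i j)).symm ▸ Ideal.mul_mem_mul (swap_sub_self_mem i j c) h1) using 1
    ring

theorem swap_sub_pow_mem (i j : Fin n) : ∀ (r : ℕ) {z : ⨂[k] _ : Fin n, A},
    z ∈ diagI k A i j ^ r →
      permHom k A (Equiv.swap i j) z - (-1) ^ r * z ∈ diagI k A i j ^ (r + 1) := by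
  intro r
  induction r with
  | zero => intro z _; simpa using swap_sub_self_mem i j z
  | succ r ih =>
    intro z hz
    rw [pow_succ] at hz
    refine Submodule.mul_induction_on hz (fun x hx y hy => ?_) (fun x y hx hy => ?_)
    · rw [map_mul]
      have h1 : permHom k A (Equiv.swap i j) y ∈ diagI k A i j := by
        have := Ideal.sub_mem _ (Ideal.pow_le_self two_ne_zero (swap_add_self_mem i j hy)) hy
        simpa using this
      have e1 : (permHom k A (Equiv.swap i j) x - (-1) ^ r * x) * permHom k A (Equiv.swap i j) y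
          ∈ diagI k A i j ^ (r + 1 + 1) := by
        rw [pow_succ _ (r + 1)]; exact Ideal.mul_mem_mul (ih hx) h1
      have e2 : (-1) ^ r * x * (permHom k A (Equiv.swap i j) y + y)
          ∈ diagI k A i j ^ (r + 1 + 1) := by
        rw [show r + 1 + 1 = r + 2 from rfl, pow_add]
        exact Ideal.mul_mem_mul (Ideal.mul_mem_left _ _ hx) (swap_add_self_mem i j hy)
      convert Ideal.add_mem _ e1 e2 using 1
      ring
    · rw [map_add]
      convert Ideal.add_mem _ hx hy using 1
      ring

theorem mem_pow_succ_of_invariant (h2 : IsUnit (2 : k)) {i j : Fin n} {r : ℕ} (hr : Odd r)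
    {x : ⨂[k] _ : Fin n, A} (hx : permHom k A (Equiv.swap i j) x = x)
    (hmem : x ∈ diagI k A i j ^ r) : x ∈ diagI k A i j ^ (r + 1) := by
  have := swap_sub_pow_mem i j r hmem
  rw [hx, hr.neg_one_pow] at this
  have h' : algebraMap k _ 2 * x ∈ diagI k A i j ^ (r + 1) := by
    convert this using 1
    rw [map_ofNat]; ring
  exact (Ideal.unit_mul_mem_iff_mem _ (h2.map (algebraMap k _))).1 h'

end Groth.L08.Diag
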